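import Cfsg.Agent.Lib.Linear.SL2
import Cfsg.Agent.Lib.SzTori.Count
import Cfsg.Agent.Lib.SzTori.Normalizer
import Cfsg.Agent.Lib.SzElements.Basic

/-!
# Element orders of `PSL₂(q)` and of the Suzuki groups used for the lists of simple CIT groups

Owner: helper73.
-/

set_option autoImplicit false
set_option linter.unusedSectionVars false
set_option linter.style.haveILetI false

namespace Cfsg.Agent.Lib.CITSuzuki.Orders

open Matrix

section PSL

variable {F : Type*} [Field F] [Fintype F]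

/-- Passing to `PSL₂` at most halves an order. -/
theorem dvd_two_mul_orderOf_mk (x : Matrix.SpecialLinearGroup (Fin 2) F) :
    orderOf x ∣ 2 * orderOf (QuotientGroup.mk x : Matrix.ProjectiveSpecialLinearGroup (Fin 2) F) := by
  have h1 : x ^ orderOf (QuotientGroup.mk x : Matrix.ProjectiveSpecialLinearGroup (Fin 2) F) ∈
      Subgroup.center (Matrix.SpecialLinearGroup (Fin 2) F) := by
    rw [← QuotientGroup.eq_one_iff, QuotientGroup.mk_pow, pow_orderOf_eq_one]
  obtain ⟨r, hr, hr'⟩ := Matrix.SpecialLinearGroup.mem_center_iff.1 h1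
  rw [Fintype.card_fin] at hr
  refine orderOf_dvd_of_pow_eq_one ?_
  rw [mul_comm, pow_mul]
  refine Subtype.ext ?_
  rw [Matrix.SpecialLinearGroup.coe_pow, ← hr', ← map_pow, hr, map_one]
  rfl

theorem orderOf_mk_dvd (x : Matrix.SpecialLinearGroup (Fin 2) F) :
    orderOf (QuotientGroup.mk x : Matrix.ProjectiveSpecialLinearGroup (Fin 2) F) ∣ orderOf x :=
  orderOf_map_dvd (QuotientGroup.mk' _) x

theorem psl_two_even (h : Even (Fintype.card F)) :
    (∃ x : Matrix.ProjectiveSpecialLinearGroup (Fin 2) F, orderOf x = Fintype.card F - 1) ∧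
      ∃ x : Matrix.ProjectiveSpecialLinearGroup (Fin 2) F, orderOf x = Fintype.card F + 1 := by
  have key : ∀ (x : Matrix.SpecialLinearGroup (Fin 2) F) (n : ℕ), Odd n → orderOf x = n →
      orderOf (QuotientGroup.mk x : Matrix.ProjectiveSpecialLinearGroup (Fin 2) F) = n := fun x n hn hx =>
    Nat.dvd_antisymm (hx ▸ orderOf_mk_dvd x)
      ((hn.coprime_two_right).dvd_of_dvd_mul_left (hx ▸ dvd_two_mul_orderOf_mk x))
  obtain ⟨x, hx⟩ := Linear.exists_orderOf_eq_card_sub_one (F := F)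
  obtain ⟨y, hy⟩ := Linear.exists_orderOf_eq_card_add_one (F := F)
  exact ⟨⟨_, key x _ (Nat.Even.sub_odd Fintype.card_pos h odd_one) hx⟩, ⟨_, key y _ h.add_one hy⟩⟩

theorem psl_two_odd (h : Odd (Fintype.card F)) :
    (∃ x : Matrix.ProjectiveSpecialLinearGroup (Fin 2) F, (Fintype.card F - 1) / 2 ∣ orderOf x ∧
      orderOf x ∣ Fintype.card F - 1) ∧
    ∃ x : Matrix.ProjectiveSpecialLinearGroup (Fin 2) F, (Fintype.card F + 1) / 2 ∣ orderOf x ∧
      orderOf x ∣ Fintype.card F + 1 := by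
  have key : ∀ (x : Matrix.SpecialLinearGroup (Fin 2) F) (n : ℕ), Even n → orderOf x = n →
      n / 2 ∣ orderOf (QuotientGroup.mk x : Matrix.ProjectiveSpecialLinearGroup (Fin 2) F) ∧
        orderOf (QuotientGroup.mk x : Matrix.ProjectiveSpecialLinearGroup (Fin 2) F) ∣ n := fun x n hn hx =>
    ⟨Nat.dvd_of_mul_dvd_mul_left two_pos
      (by rw [Nat.two_mul_div_two_of_even hn]; exact hx ▸ dvd_two_mul_orderOf_mk x),
      hx ▸ orderOf_mk_dvd x⟩
  obtain ⟨x, hx⟩ := Linear.exists_orderOf_eq_card_sub_one (F := F)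
  obtain ⟨y, hy⟩ := Linear.exists_orderOf_eq_card_add_one (F := F)
  exact ⟨⟨_, key x _ (Nat.Odd.sub_odd h odd_one) hx⟩, ⟨_, key y _ h.add_one hy⟩⟩

end PSL

section Sz

open Cfsg.Agent.Lib.LieTwisted.Suzuki Cfsg.Agent.Lib.SzTori Cfsg.Agent.Lib.SzElements.Basic

variable {F : Type*} [Field F] [Fintype F] {m : ℕ} (h : IsSzField F m) (hm : 1 ≤ m)
include h hm

theorem sz_torus_order {k : ℕ}
    (hk : k ∈ ({2 ^ (2 * m + 1) + 2 ^ (m + 1) + 1, 2 ^ (2 * m + 1) - 2 ^ (m + 1) + 1} : Set ℕ)) :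
    ∃ g : Cfsg.Sz F m, orderOf g = k := by
  obtain ⟨g, hg, hc⟩ := (torus_orders h hm).2 k hk
  haveI := torus_cyclic h hm hg
  obtain ⟨c, hcc⟩ := IsCyclic.exists_ofOrder_eq_natCard (α := Subgroup.centralizer ({g} : Set (Cfsg.Sz F m)))
  exact ⟨c, by rw [Subgroup.orderOf_coe, hcc]; exact hc⟩

theorem sz_split_order : ∃ g : Cfsg.Sz F m, orderOf g = Fintype.card F - 1 := by
  have hc := SzTori.card_range_dS h hm
  obtain ⟨u, hu⟩ := IsCyclic.exists_ofOrder_eq_natCard (α := Fˣ)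
  refine ⟨dS h u, ?_⟩
  have htop : Subgroup.zpowers u = ⊤ := Subgroup.eq_top_of_card_eq _ (by rw [Nat.card_zpowers, hu])
  have h1 : Subgroup.zpowers (dS h u) = (dS h).range := by
    rw [← MonoidHom.map_zpowers, htop, MonoidHom.range_eq_map]
  rw [← Nat.card_zpowers, h1, hc]

theorem sz_four : ∃ g : Cfsg.Sz F m, orderOf g = 4 := by
  haveI : Fact (Nat.Prime 2) := ⟨Nat.prime_two⟩
  refine ⟨uS h 1 0, orderOf_eq_prime_pow (p := 2) (n := 1) (fun e => ?_) ?_⟩
  · exact one_ne_zero (eq_zero_of_sq h (a := (1 : F)) (b := 0) (by simpa using e))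
  · exact pow_four_of_mem h hm (h.uS_mem 1 0)

end Sz

end Cfsg.Agent.Lib.CITSuzuki.Orders
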