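import Cfsg.Agent.Lib.CITSuzuki.Arith
import Cfsg.Agent.Lib.CITSuzuki.Orders
import Cfsg.Agent.Lib.CITReduce.SuzukiGraph
import Cfsg.Agent.Lib.Spectrum.EPPO
import Cfsg.Agent.Lib.Linear.SmallIso.PSL9
import Cfsg.Agent.Lib.Linear.SmallIso.PSL5
import Cfsg.Agent.Lib.LieTwisted.SuzukiBruhat
import Cfsg.Agent.S0252
import Cfsg.Agent.Lib.Spectrum.SL25Recognition

/-!
# Simple groups with few kinds of element orders, from the list of the simple CIT groups

The simple groups all of whose elements have prime power order, and the CIT groups among the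
simple groups with at most one composite element order.

Owner: helper73.
-/

set_option autoImplicit false
set_option linter.style.haveILetI false
set_option linter.unusedSectionVars false

namespace Cfsg.Agent.Lib.CITSuzuki.Lists

open Cfsg.Agent.Lib

universe u

/-- No two distinct composite element orders. -/
def OneComp (G : Type*) [Group G] : Prop :=
  {n : ℕ | n ∈ Set.range (orderOf : G → ℕ) ∧ 1 < n ∧ ¬ n.Prime}.Subsingleton

theorem OneComp.eq {G : Type*} [Group G] (h : OneComp G) {x : G} {a : ℕ} (ha : a ∣ orderOf x)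
    {y : G} {b : ℕ} (hb : b ∣ orderOf y) [Finite G] (ha1 : 1 < a) (hap : ¬ a.Prime) (hb1 : 1 < b)
    (hbp : ¬ b.Prime) : a = b :=
  h ⟨⟨_, orderOf_pow_orderOf_div (orderOf_pos x).ne' ha⟩, ha1, hap⟩
    ⟨⟨_, orderOf_pow_orderOf_div (orderOf_pos y).ne' hb⟩, hb1, hbp⟩

theorem not_prime_of_dvd {a d : ℕ} (hd : d ∣ a) (h1 : 1 < d) (h2 : d < a) : ¬ a.Prime := fun h => by
  rcases h.eq_one_or_self_of_dvd d hd with e | e <;> omega

section Two

variable {G : Type*} [Group G] [Finite G] {F : Type} [Field F] [Fintype F]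
  (e : G ≃* Matrix.ProjectiveSpecialLinearGroup (Fin 2) F)
include e

theorem one_le_exp {n : ℕ} (hn : Fintype.card F = 2 ^ n) : 1 ≤ n := by
  have := Fintype.one_lt_card (α := F)
  rcases n with _ | n
  · simp at hn; omega
  · omega

theorem exists_orders_two {n : ℕ} (hn : Fintype.card F = 2 ^ n) :
    (∃ g : G, orderOf g = 2 ^ n - 1) ∧ ∃ g : G, orderOf g = 2 ^ n + 1 := by
  obtain ⟨⟨x, hx⟩, ⟨y, hy⟩⟩ := Orders.psl_two_even (F := F)
    (hn ▸ Nat.even_pow.2 ⟨even_two, by have := one_le_exp e hn; omega⟩)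
  exact ⟨⟨e.symm x, by rw [MulEquiv.orderOf_eq, hx, hn]⟩, ⟨e.symm y, by rw [MulEquiv.orderOf_eq, hy, hn]⟩⟩

/-- `PSL₂(2 ^ n)` with all element orders prime powers. -/
theorem eppo_even (h : Spectrum.EPPO.Hyp G) {n : ℕ} (hn : Fintype.card F = 2 ^ n) (hn2 : 2 ≤ n) :
    n = 2 ∨ n = 3 := by
  obtain ⟨⟨x, hx⟩, ⟨y, hy⟩⟩ := exists_orders_two e hn
  have h4 : 4 ≤ 2 ^ n := (show 4 = 2 ^ 2 by norm_num) ▸ Nat.pow_le_pow_right (by norm_num) hn2
  have hx1 : x ≠ 1 := fun e => by rw [e, orderOf_one] at hx; omega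
  have hy1 : y ≠ 1 := fun e => by rw [e, orderOf_one] at hy; omega
  rcases Nat.even_or_odd n with he | ho
  · obtain ⟨a, ha⟩ := Arith.eq_pow_of_dvd Nat.prime_three (hx ▸ h x hx1) (Arith.three_dvd_two_pow_sub_one he)
    exact Or.inl (le_antisymm (Arith.two_pow_eq_add_one (a := a) (by omega)) hn2)
  · obtain ⟨a, ha⟩ := Arith.eq_pow_of_dvd Nat.prime_three (hy ▸ h y hy1) (Arith.three_dvd_two_pow_add_one ho)
    rcases Arith.two_pow_add_one_eq ha with e1 | e1 <;> omega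

/-- `PSL₂(p)`, `p = 2 ^ k ± 1`, with all element orders prime powers. -/
theorem eppo_odd (h : Spectrum.EPPO.Hyp G) (hp : (Fintype.card F).Prime) (h5 : 5 ≤ Fintype.card F) {k : ℕ}
    (hk : Fintype.card F = 2 ^ k + 1 ∨ Fintype.card F + 1 = 2 ^ k) :
    Fintype.card F = 5 ∨ Fintype.card F = 7 ∨ Fintype.card F = 17 := by
  obtain ⟨⟨x, hx, -⟩, ⟨y, hy, -⟩⟩ := Orders.psl_two_odd (F := F) (hp.odd_of_ne_two (by omega))
  set p := Fintype.card F
  obtain ⟨j, rfl⟩ : ∃ j, k = j + 1 := ⟨k - 1, by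
    rcases k with _ | k
    · simp at hk; omega
    · omega⟩
  have h2 : 2 ^ (j + 1) = 2 * 2 ^ j := pow_succ' 2 j
  -- a divisor `d > 1` of an element order, prime to `2`, is a prime power
  have key : ∀ (z : Matrix.ProjectiveSpecialLinearGroup (Fin 2) F) (d : ℕ), d ∣ orderOf z → 3 ∣ d →
      ∃ a, d = 3 ^ a := by
    intro z d hd h3
    obtain ⟨g, rfl⟩ := e.surjective z
    rw [MulEquiv.orderOf_eq] at hd
    have hg : g ≠ 1 := fun e1 => by
      rw [e1, orderOf_one, Nat.dvd_one] at hd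
      omega
    obtain ⟨a, ha⟩ := Arith.eq_pow_of_dvd Nat.prime_three (h g hg) (h3.trans hd)
    obtain ⟨b, -, hb⟩ := (Nat.dvd_prime_pow Nat.prime_three).1 (ha ▸ hd)
    exact ⟨b, hb⟩
  rcases hk with hk | hk
  · -- Fermat prime
    rcases Nat.even_or_odd j with he | ho
    · have h3 : 3 ∣ p := hk ▸ Arith.three_dvd_two_pow_add_one he.add_one
      rcases hp.eq_one_or_self_of_dvd 3 h3 with e1 | e1 <;> omega
    · obtain ⟨a, ha⟩ := key y _ hy (by
        rw [show (p + 1) / 2 = 2 ^ j + 1 by omega]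
        exact Arith.three_dvd_two_pow_add_one ho)
      rw [show (p + 1) / 2 = 2 ^ j + 1 by omega] at ha
      rcases Arith.two_pow_add_one_eq ha with rfl | rfl <;> norm_num at hk <;> omega
  · -- Mersenne prime
    rcases Nat.even_or_odd j with he | ho
    · obtain ⟨a, ha⟩ := key x _ hx (by
        rw [show (p - 1) / 2 = 2 ^ j - 1 by omega]
        exact Arith.three_dvd_two_pow_sub_one he)
      rw [show (p - 1) / 2 = 2 ^ j - 1 by omega] at ha
      have := Nat.two_pow_pos j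
      have hj := Arith.two_pow_eq_add_one (a := a) (m := j) (by omega)
      interval_cases j <;> norm_num at hk <;> omega
    · have h3 : 3 ∣ p := by
        rw [show p = 2 ^ (j + 1) - 1 by omega]
        exact Arith.three_dvd_two_pow_sub_one ho.add_one
      rcases hp.eq_one_or_self_of_dvd 3 h3 with e1 | e1 <;> omega

/-- `PSL₂(2 ^ n)` with at most one composite element order. -/
theorem comp_even (h : OneComp G) {n : ℕ} (hn : Fintype.card F = 2 ^ n) (hn2 : 5 ≤ n) :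
    ∃ r : ℕ, (2 ^ n - 1).Prime ∧ r.Prime ∧ 2 ^ n + 1 = 3 * r := by
  obtain ⟨⟨x, hx⟩, ⟨y, hy⟩⟩ := exists_orders_two e hn
  have h32 : 32 ≤ 2 ^ n := (show 32 = 2 ^ 5 by norm_num) ▸ Nat.pow_le_pow_right (by norm_num) hn2
  rcases Nat.even_or_odd n with ⟨j, rfl⟩ | ho
  · exfalso
    have hj : 8 ≤ 2 ^ j := (show 8 = 2 ^ 3 by norm_num) ▸ Nat.pow_le_pow_right (by norm_num) (by omega)
    have hfac : 2 ^ (j + j) - 1 = (2 ^ j - 1) * (2 ^ j + 1) := by
      rw [pow_add, mul_comm (2 ^ j - 1)]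
      simpa [pow_two] using (Nat.sq_sub_sq (2 ^ j) 1)
    obtain ⟨d, hd3, hd4, hdd⟩ : ∃ d, 3 ∣ d ∧ 3 < d ∧ d ∣ 2 ^ (j + j) - 1 ∧ d < 2 ^ (j + j) - 1 := by
      rcases Nat.even_or_odd j with he | ho
      · exact ⟨_, Arith.three_dvd_two_pow_sub_one he, by omega, hfac ▸ dvd_mul_right _ _,
          hfac ▸ lt_mul_of_one_lt_right (by omega) (by omega)⟩
      · exact ⟨_, Arith.three_dvd_two_pow_add_one ho, by omega, hfac ▸ dvd_mul_left _ _,
          hfac ▸ lt_mul_of_one_lt_left (by omega) (by omega)⟩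
    exact hdd.2.ne (h.eq (hx ▸ hdd.1) (dvd_of_eq hx.symm) (by omega)
      (not_prime_of_dvd hd3 (by norm_num) hd4) (by omega)
      (not_prime_of_dvd hdd.1 (by omega) hdd.2))
  · obtain ⟨r, hr⟩ := Arith.three_dvd_two_pow_add_one ho
    have hy1 : ¬ (2 ^ n + 1).Prime := not_prime_of_dvd ⟨r, hr⟩ (by norm_num) (by omega)
    refine ⟨r, ?_, ?_, hr⟩
    · by_contra hp
      have := h.eq (dvd_of_eq hx.symm) (dvd_of_eq hy.symm) (by omega) hp (by omega) hy1
      omega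
    · by_contra hp
      have := h.eq (x := y) (hy ▸ hr ▸ dvd_mul_left r 3) (dvd_of_eq hy.symm) (by omega) hp (by omega) hy1
      omega

/-- `PSL₂(p)`, `p = 2 ^ k ± 1`, with at most one composite element order. -/
theorem comp_odd (h : OneComp G) (hp : (Fintype.card F).Prime) (h5 : 5 ≤ Fintype.card F) {k : ℕ}
    (hk : Fintype.card F = 2 ^ k + 1 ∨ Fintype.card F + 1 = 2 ^ k) :
    Fintype.card F = 5 ∨ Fintype.card F = 7 := by
  obtain ⟨⟨x, hx, -⟩, ⟨y, hy, -⟩⟩ := Orders.psl_two_odd (F := F) (hp.odd_of_ne_two (by omega))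
  set p := Fintype.card F
  by_cases hk3 : k ≤ 3
  · interval_cases k <;> norm_num at hk <;>
      rcases Nat.lt_or_ge p 8 with hl | hl <;>
      first
      | omega
      | (have h9 : p = 9 := by omega
         rw [h9] at hp; norm_num at hp)
  exfalso
  obtain ⟨j, rfl⟩ : ∃ j, k = j + 4 := ⟨k - 4, by omega⟩
  have h2 : 2 ^ (j + 4) = 2 * (8 * 2 ^ j) := by rw [pow_add]; ring
  obtain ⟨z, hz⟩ : ∃ z, 8 * 2 ^ j ∣ orderOf z := by
    rcases hk with hk | hk
    · exact ⟨x, by rwa [show 8 * 2 ^ j = (p - 1) / 2 by omega]⟩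
    · exact ⟨y, by rwa [show 8 * 2 ^ j = (p + 1) / 2 by omega]⟩
  obtain ⟨g, rfl⟩ := e.surjective z
  rw [MulEquiv.orderOf_eq] at hz
  have := h.eq (a := 4) (b := 8) ((Dvd.intro 2 (by norm_num)).trans ((dvd_mul_right 8 _).trans hz))
    ((dvd_mul_right 8 _).trans hz) (by norm_num) (by norm_num) (by norm_num) (by norm_num)
  omega

end Two

section Sz

open Cfsg.Agent.Lib.LieTwisted.Suzuki

variable {G : Type*} [Group G] [Finite G] {F : Type} [Field F] [Fintype F] {m : ℕ}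
  (h : IsSzField F m) (hm : 1 ≤ m) (e : G ≃* Cfsg.Lie.Sz F (2 ^ (m + 1)))
include h hm e

theorem exists_of_sz {k : ℕ} (hk : ∃ g : Cfsg.Sz F m, orderOf g = k) : ∃ g : G, orderOf g = k := by
  obtain ⟨g, hg⟩ := hk
  exact ⟨e.symm (szEquiv h hm g), by rw [MulEquiv.orderOf_eq, MulEquiv.orderOf_eq, hg]⟩

theorem five_dvd_torus : ∃ k : ℕ, 5 ∣ k ∧ 5 ≤ k ∧ (∃ g : G, orderOf g = k) ∧
    (k = 2 ^ (2 * m + 1) + 2 ^ (m + 1) + 1 ∨ k = 2 ^ (2 * m + 1) - 2 ^ (m + 1) + 1) := by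
  have hab : 5 ∣ (2 ^ (2 * m + 1) + 2 ^ (m + 1) + 1) * (2 ^ (2 * m + 1) - 2 ^ (m + 1) + 1) := by
    have hle : 2 ^ (m + 1) ≤ 2 ^ (2 * m + 1) := Nat.pow_le_pow_right (by norm_num) (by omega)
    have hfac : (2 ^ (2 * m + 1) + 2 ^ (m + 1) + 1) * (2 ^ (2 * m + 1) - 2 ^ (m + 1) + 1) =
        2 ^ (4 * m + 2) + 1 := by
      zify [hle]
      ring
    rw [hfac, Nat.dvd_iff_mod_eq_zero, pow_add, pow_mul, Nat.add_mod, Nat.mul_mod, Nat.pow_mod]
    norm_num
  have hpos : ∀ k : ℕ, 5 ∣ k + 1 → 5 ≤ k + 1 := fun k hk => Nat.le_of_dvd k.succ_pos hk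
  rcases (by norm_num : Nat.Prime 5).dvd_mul.1 hab with h5 | h5
  · exact ⟨_, h5, hpos _ h5, exists_of_sz h hm e (Orders.sz_torus_order h hm (Or.inl rfl)), Or.inl rfl⟩
  · exact ⟨_, h5, hpos _ h5, exists_of_sz h hm e (Orders.sz_torus_order h hm (Or.inr rfl)), Or.inr rfl⟩

/-- A Suzuki group with all element orders prime powers. -/
theorem eppo_sz (hG : Spectrum.EPPO.Hyp G) : m ≤ 2 := by
  obtain ⟨k, h5, h5', ⟨g, hg⟩, hk⟩ := five_dvd_torus h hm e
  have hg1 : g ≠ 1 := fun e1 => by rw [e1, orderOf_one] at hg; omega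
  obtain ⟨a, ha⟩ := Arith.eq_pow_of_dvd (by norm_num : Nat.Prime 5) (hg ▸ hG g hg1) h5
  exact Arith.le_two_of_five_pow (ha ▸ hk)

/-- A Suzuki group with at most one composite element order. -/
theorem comp_sz (hG : OneComp G) : m = 1 := by
  obtain ⟨k, h5, -, ⟨g, hg⟩, hk⟩ := five_dvd_torus h hm e
  obtain ⟨f, hf⟩ := exists_of_sz h hm e (Orders.sz_four h hm)
  by_contra hm1
  have hodd : k % 2 = 1 := by
    rcases hk with rfl | rfl <;> (rw [pow_succ, pow_succ]; omega)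
  have hlt : 5 < k := by
    have hr : 8 ≤ 2 ^ (m + 1) := (show 8 = 2 ^ 3 by norm_num) ▸ Nat.pow_le_pow_right (by norm_num) (by omega)
    have hq : 2 ^ (2 * m + 1) = 2 ^ m * 2 ^ (m + 1) := by rw [← pow_add]; ring_nf
    have h4 : 4 ≤ 2 ^ m := (show 4 = 2 ^ 2 by norm_num) ▸ Nat.pow_le_pow_right (by norm_num) (by omega)
    have : 4 * 2 ^ (m + 1) ≤ 2 ^ (2 * m + 1) := hq ▸ Nat.mul_le_mul_right _ h4
    omega
  have := hG.eq (dvd_of_eq hg.symm) (dvd_of_eq hf.symm) (by omega) (not_prime_of_dvd h5 (by norm_num) hlt)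
    (by norm_num) (by norm_num)
  omega

end Sz

theorem five_le_of_simple {G : Type*} [Group G] [Finite G] [IsSimpleGroup G] (hG : ∃ a b : G, a * b ≠ b * a)
    {F : Type} [Field F] [Fintype F] (e : G ≃* Matrix.ProjectiveSpecialLinearGroup (Fin 2) F) :
    4 ≤ Fintype.card F := by
  by_contra h4
  push Not at h4
  have h60 : 60 ≤ Nat.card G := by
    by_contra hlt
    push Not at hlt
    obtain ⟨a, b, hab⟩ := hG
    haveI := Spectrum.isSolvable_of_card_lt_sixty _ (G := G) rfl hlt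
    exact hab (IsSimpleGroup.comm_iff_isSolvable.2 inferInstance a b)
  rw [Nat.card_congr e.toEquiv] at h60
  have h1 := Fintype.one_lt_card (α := F)
  rcases (show Fintype.card F = 2 ∨ Fintype.card F = 3 by omega) with hc | hc
  · have := Linear.card_PSL_two_of_even (F := F) (by rw [hc]; decide)
    rw [hc] at this
    omega
  · have := Linear.two_mul_card_PSL_two_of_odd (F := F) (by rw [hc]; decide)
    rw [hc] at this
    omega

theorem sz_fields {G : Type*} [Group G] {F : Type} [Field F] [Fintype F] {m : ℕ} (hm2 : m ≤ 2) (hm : 1 ≤ m)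
    (hF : Fintype.card F = 2 ^ (2 * m + 1)) (e : Nonempty (G ≃* Cfsg.Lie.Sz F (2 ^ (m + 1)))) :
    (Fintype.card F = 8 ∧ Nonempty (G ≃* Cfsg.Lie.Sz F 4)) ∨
      (Fintype.card F = 32 ∧ Nonempty (G ≃* Cfsg.Lie.Sz F 8)) := by
  interval_cases m
  · exact Or.inl ⟨hF, e⟩
  · exact Or.inr ⟨hF, e⟩

theorem psl_two_five_to_four {G : Type*} [Group G] {F : Type} [Field F] [Fintype F]
    (hF : Fintype.card F = 5) (e : G ≃* Matrix.ProjectiveSpecialLinearGroup (Fin 2) F) :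
    ∃ (K : Type) (_ : Field K) (_ : Fintype K), Fintype.card K = 4 ∧
      Nonempty (G ≃* Matrix.ProjectiveSpecialLinearGroup (Fin 2) K) := by
  haveI : Fact (Nat.Prime 2) := ⟨Nat.prime_two⟩
  letI : Fintype (GaloisField 2 2) := Fintype.ofFinite _
  have h4 : Fintype.card (GaloisField 2 2) = 4 := by
    rw [← Nat.card_eq_fintype_card, GaloisField.card 2 2 two_ne_zero]
    norm_num
  obtain ⟨e5⟩ := Linear.SmallIso.nonempty_psl_two_five hF
  obtain ⟨e4⟩ := Cfsg.Agent.S0252.result h4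
  exact ⟨_, inferInstance, inferInstance, h4, ⟨(e.trans e5).trans e4.symm⟩⟩

theorem psl_two_four_to_five {G : Type*} [Group G] {F : Type} [Field F] [Fintype F]
    (hF : Fintype.card F = 4) (e : G ≃* Matrix.ProjectiveSpecialLinearGroup (Fin 2) F) :
    ∃ (K : Type) (_ : Field K) (_ : Fintype K), Fintype.card K = 5 ∧
      Nonempty (G ≃* Matrix.ProjectiveSpecialLinearGroup (Fin 2) K) := by
  haveI : Fact (Nat.Prime 5) := ⟨by norm_num⟩
  obtain ⟨e4⟩ := Cfsg.Agent.S0252.result hF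
  obtain ⟨e5⟩ := Linear.SmallIso.nonempty_psl_two_five (F := ZMod 5) (ZMod.card 5)
  exact ⟨_, inferInstance, inferInstance, ZMod.card 5, ⟨(e.trans e4).trans e5.symm⟩⟩

/-- The simple groups all whose elements have prime power order. -/
theorem eppo_list (hcls : CITReduce.SuzukiGraph.SimpleCITClass.{u}) {G : Type u} [Group G] [Finite G]
    [IsSimpleGroup G] (hG : ¬ IsMulCommutative G) (h : ∀ g : G, g ≠ 1 → IsPrimePow (orderOf g)) :
    Nonempty (G ≃* alternatingGroup (Fin 6)) ∨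
    (∃ (F : Type) (_ : Field F) (_ : Fintype F), Fintype.card F ∈ ({4, 7, 8, 17} : Finset ℕ) ∧
      Nonempty (G ≃* Matrix.ProjectiveSpecialLinearGroup (Fin 2) F)) ∨
    (∃ (F : Type) (_ : Field F) (_ : Fintype F), Fintype.card F = 4 ∧
      Nonempty (G ≃* Matrix.ProjectiveSpecialLinearGroup (Fin 3) F)) ∨
    (∃ (F : Type) (_ : Field F) (_ : Fintype F),
      (Fintype.card F = 8 ∧ Nonempty (G ≃* ↥(Cfsg.Lie.Sz F 4))) ∨
      (Fintype.card F = 32 ∧ Nonempty (G ≃* ↥(Cfsg.Lie.Sz F 8)))) := by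
  have hna : ∃ a b : G, a * b ≠ b * a := by
    by_contra hc
    push Not at hc
    exact hG ⟨⟨hc⟩⟩
  have hCIT : ∀ t : G, orderOf t = 2 → IsPGroup 2 (Subgroup.centralizer ({t} : Set G)) := fun t ht =>
    Spectrum.EPPO.Hyp.centralizer_isPGroup h (fun e => by rw [e, orderOf_one] at ht; omega) Nat.prime_two
      (ht ▸ dvd_rfl)
  rcases hcls G hna hCIT with ⟨F, iF, iT, hF, ⟨e⟩⟩ | h34 | ⟨F, iF, iT, m, hm, hF, he⟩
  · have h4 := five_le_of_simple hna e
    rcases hF with h9 | ⟨n, hn⟩ | ⟨hp, k, hk⟩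
    · obtain ⟨e6⟩ := Linear.SmallIso.nonempty_psl_two_nine h9
      exact Or.inl ⟨e.trans e6⟩
    · refine Or.inr (Or.inl ⟨F, iF, iT, ?_, ⟨e⟩⟩)
      have hn2 : 2 ≤ n := by
        by_contra hlt
        interval_cases n <;> simp at hn <;> omega
      rcases eppo_even e h hn hn2 with rfl | rfl <;> simp [hn]
    · have h5 : 5 ≤ Fintype.card F := by
        by_contra hlt
        have h44 : Fintype.card F = 4 := by omega
        rw [h44] at hp
        norm_num at hp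
      rcases eppo_odd e h hp h5 hk with h0 | h0 | h0
      · obtain ⟨K, iK, iK', hK, he⟩ := psl_two_five_to_four h0 e
        exact Or.inr (Or.inl ⟨K, iK, iK', by simp [hK], he⟩)
      · exact Or.inr (Or.inl ⟨F, iF, iT, by simp [h0], ⟨e⟩⟩)
      · exact Or.inr (Or.inl ⟨F, iF, iT, by simp [h0], ⟨e⟩⟩)
  · exact Or.inr (Or.inr (Or.inl h34))
  · obtain ⟨e⟩ := he
    exact Or.inr (Or.inr (Or.inr ⟨F, iF, iT, sz_fields (eppo_sz ⟨hF⟩ hm e h) hm hF ⟨e⟩⟩))

/-- The simple CIT groups with at most one composite element order. -/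
theorem comp_list (hcls : CITReduce.SuzukiGraph.SimpleCITClass.{u}) {G : Type u} [Group G] [Finite G]
    [IsSimpleGroup G] (hna : ∃ a b : G, a * b ≠ b * a) (h : OneComp G)
    (hCIT : ∀ t : G, orderOf t = 2 → IsPGroup 2 (Subgroup.centralizer ({t} : Set G))) :
    (∃ (F : Type) (_ : Field F) (_ : Fintype F), (Fintype.card F = 5 ∨ Fintype.card F = 7 ∨ Fintype.card F = 8 ∨
        Fintype.card F = 9 ∨ Fintype.card F = 11 ∨ Fintype.card F = 13 ∨ Fintype.card F = 16) ∧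
        Nonempty (G ≃* Matrix.ProjectiveSpecialLinearGroup (Fin 2) F)) ∨
    (∃ (F : Type) (_ : Field F) (_ : Fintype F), Fintype.card F = 4 ∧
        Nonempty (G ≃* Matrix.ProjectiveSpecialLinearGroup (Fin 3) F)) ∨
    (∃ (F : Type) (_ : Field F) (_ : Fintype F), Fintype.card F = 8 ∧ Nonempty (G ≃* ↥(Cfsg.Lie.Sz F 4))) ∨
    (∃ (F : Type) (_ : Field F) (_ : Fintype F), ∃ n r : ℕ, (2 ^ n - 1).Prime ∧ r.Prime ∧ 2 ^ n + 1 = 3 * r ∧
        Fintype.card F = 2 ^ n ∧ Nonempty (G ≃* Matrix.ProjectiveSpecialLinearGroup (Fin 2) F)) := by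
  rcases hcls G hna hCIT with ⟨F, iF, iT, hF, ⟨e⟩⟩ | h34 | ⟨F, iF, iT, m, hm, hF, he⟩
  · have h4 := five_le_of_simple hna e
    rcases hF with h9 | ⟨n, hn⟩ | ⟨hp, k, hk⟩
    · exact Or.inl ⟨F, iF, iT, by omega, ⟨e⟩⟩
    · by_cases hn5 : 5 ≤ n
      · obtain ⟨r, h1, h2, h3⟩ := comp_even e h hn hn5
        exact Or.inr (Or.inr (Or.inr ⟨F, iF, iT, n, r, h1, h2, h3, hn, ⟨e⟩⟩))
      · have : n = 2 ∨ n = 3 ∨ n = 4 := by
          interval_cases n <;> simp at hn <;> omega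
        rcases this with rfl | rfl | rfl
        · obtain ⟨K, iK, iK', hK, he⟩ := psl_two_four_to_five hn e
          exact Or.inl ⟨K, iK, iK', Or.inl hK, he⟩
        · exact Or.inl ⟨F, iF, iT, by omega, ⟨e⟩⟩
        · exact Or.inl ⟨F, iF, iT, by omega, ⟨e⟩⟩
    · have h5 : 5 ≤ Fintype.card F := by
        by_contra hlt
        have h44 : Fintype.card F = 4 := by omega
        rw [h44] at hp
        norm_num at hp
      rcases comp_odd e h hp h5 hk with h0 | h0 <;> exact Or.inl ⟨F, iF, iT, by omega, ⟨e⟩⟩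
  · exact Or.inr (Or.inl h34)
  · obtain ⟨e⟩ := he
    have h1 := comp_sz ⟨hF⟩ hm e h
    subst h1
    exact Or.inr (Or.inr (Or.inl ⟨F, iF, iT, hF, ⟨e⟩⟩))

end Cfsg.Agent.Lib.CITSuzuki.Lists
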