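import Cfsg.Agent.Lib.CIT.CaseTwo
import Mathlib.RingTheory.ZMod.UnitsCyclic

/-!
# Arithmetic of the torus orders of the simple CIT groups

Powers of three next to powers of two, and the power of five dividing `2 ^ (4m + 2) + 1`.

Owner: helper73.
-/

set_option autoImplicit false

namespace Cfsg.Agent.Lib.CITSuzuki.Arith

theorem two_pow_add_one_eq {m a : ℕ} (h : 2 ^ m + 1 = 3 ^ a) : m = 1 ∨ m = 3 := by
  have ha : 0 < a := by
    rcases a with _ | a
    · have := Nat.two_pow_pos m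
      simp at h
    · omega
  rcases CIT.prime_or_nine Nat.prime_three (by decide) ha (Or.inl h.symm) with hp | hp
  · have : a = 1 := (Nat.Prime.pow_eq_iff hp).1 rfl |>.2
    subst this
    exact Or.inl ((Nat.pow_eq_self_iff (a := 2) (b := m) (by norm_num)).1 (by omega))
  · rw [hp] at h
    exact Or.inr (Nat.pow_right_injective le_rfl (show 2 ^ m = 2 ^ 3 by omega))

theorem two_pow_eq_add_one {m a : ℕ} (h : 3 ^ a + 1 = 2 ^ m) : m ≤ 2 := by
  rcases Nat.eq_zero_or_pos a with rfl | ha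
  · have : m = 1 := (Nat.pow_eq_self_iff (a := 2) (b := m) (by norm_num)).1 (by simpa using h.symm)
    omega
  rcases CIT.prime_or_nine Nat.prime_three (by decide) ha (Or.inr h) with hp | hp
  · have : a = 1 := (Nat.Prime.pow_eq_iff hp).1 rfl |>.2
    subst this
    have : m = 2 := Nat.pow_right_injective le_rfl (show 2 ^ m = 2 ^ 2 by omega)
    omega
  · rw [hp] at h
    rcases Nat.lt_or_ge m 4 with h4 | h4
    · interval_cases m <;> omega
    · have := Nat.pow_le_pow_right (show 1 ≤ 2 by norm_num) h4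
      omega

theorem three_dvd_two_pow_add_one {m : ℕ} (h : Odd m) : 3 ∣ 2 ^ m + 1 := by
  obtain ⟨k, rfl⟩ := h
  rw [Nat.dvd_iff_mod_eq_zero, pow_succ, pow_mul, Nat.add_mod, Nat.mul_mod, Nat.pow_mod]
  norm_num

theorem three_dvd_two_pow_sub_one {m : ℕ} (h : Even m) : 3 ∣ 2 ^ m - 1 := by
  obtain ⟨k, rfl⟩ := h
  have h1 := Nat.two_pow_pos (k + k)
  have : 2 ^ (k + k) % 3 = 1 := by
    rw [← two_mul, pow_mul, Nat.pow_mod]
    norm_num
  omega

/-- A prime power divisible by a prime is a power of it. -/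
theorem eq_pow_of_dvd {x p : ℕ} (hp : p.Prime) (hx : IsPrimePow x) (hd : p ∣ x) : ∃ a, x = p ^ a := by
  obtain ⟨r, k, hr, -, rfl⟩ := (isPrimePow_nat_iff _).1 hx
  exact ⟨k, by rw [(Nat.prime_dvd_prime_iff_eq hp hr).1 (hp.dvd_of_dvd_pow hd)]⟩

/-- One of the two torus orders of a Suzuki group is a power of five only for `q = 8, 32`. -/
theorem le_two_of_five_pow {m a : ℕ}
    (h : 5 ^ a = 2 ^ (2 * m + 1) + 2 ^ (m + 1) + 1 ∨ 5 ^ a = 2 ^ (2 * m + 1) - 2 ^ (m + 1) + 1) :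
    m ≤ 2 := by
  by_contra hm
  obtain ⟨j, rfl⟩ : ∃ j, m = j + 3 := ⟨m - 3, by omega⟩
  generalize hq : 2 ^ (2 * (j + 3) + 1) = q at h
  generalize hr : 2 ^ (j + 3 + 1) = r at h
  have hr2 : 2 ≤ r := hr ▸ Nat.le_self_pow (by omega) 2
  have hqr : q = 2 ^ (j + 3) * r := by rw [← hq, ← hr, ← pow_add]; ring_nf
  have hrq : r < q := hq ▸ hr ▸ Nat.pow_lt_pow_right (by norm_num) (by omega)
  have hdvd : r ∣ 5 ^ a - 1 := by
    rcases h with h | h
    · exact ⟨2 ^ (j + 3) + 1, by rw [h, Nat.mul_add, mul_one, mul_comm r, ← hqr]; omega⟩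
    · exact ⟨2 ^ (j + 3) - 1, by rw [h, Nat.mul_sub, mul_one, mul_comm r, ← hqr]; omega⟩
  have hone : (5 : ZMod r) ^ a = 1 := by
    have h1 : ((5 ^ a : ℕ) : ZMod r) = ((1 : ℕ) : ZMod r) :=
      ((ZMod.natCast_eq_natCast_iff' _ _ _).2 ((Nat.modEq_iff_dvd' (Nat.one_le_pow _ _ (by norm_num))).2 hdvd).symm)
    push_cast at h1
    exact h1
  have hord : 2 ^ (j + 2) ∣ a := by
    have h1 := orderOf_dvd_of_pow_eq_one hone
    subst hr
    rwa [show j + 3 + 1 = (j + 2) + 2 by ring, ZMod.orderOf_five] at h1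
  have ha : 0 < a := by
    rcases Nat.eq_zero_or_pos a with rfl | ha
    · rcases h with h | h <;> rw [pow_zero] at h <;> omega
    · exact ha
  have hle : j + 4 ≤ a := by
    refine le_trans ?_ (Nat.le_of_dvd ha hord)
    have h1 : j + 1 ≤ 2 ^ j := Nat.lt_two_pow_self
    have h2 : 2 ^ (j + 2) = 4 * 2 ^ j := by ring
    omega
  have h4 : 4 ^ (j + 4) < 5 ^ a :=
    (Nat.pow_lt_pow_left (by norm_num) (by omega)).trans_le (Nat.pow_le_pow_right (by norm_num) hle)
  have h2q : 4 ^ (j + 4) = 2 * q := by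
    rw [← hq, show (4 : ℕ) = 2 ^ 2 by norm_num, ← pow_mul, ← pow_succ']
    ring_nf
  rcases h with h | h <;> omega

end Cfsg.Agent.Lib.CITSuzuki.Arith
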