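import Cfsg.Agent.Lib.CIT.Exists
import Cfsg.Agent.Lib.CNGroup.EvenTI
import Cfsg.Agent.Lib.RankOneIdent.Suzuki.Main
import Cfsg.Agent.Lib.OddOrder.FeitThompson
import Cfsg.Agent.S4702

/-!
# Simple CIT-groups with TI Sylow 2-subgroups

Owner: helper73. Such a group is a Zassenhaus group of odd degree, hence `PSL₂(2ⁿ)` or a Suzuki
group.
-/

set_option autoImplicit false
set_option linter.unusedSectionVars false
set_option linter.style.haveILetI false

open Cfsg

namespace Cfsg.Agent.Lib.CITSuzuki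

open MulAction Cfsg.Agent.Lib.Zassenhaus

/-- `SL₂(F) = PSL₂(F)` in characteristic two. -/
private theorem nonempty_sl_iso_psl {F : Type} [Field F] [CharP F 2] :
    Nonempty (Matrix.SpecialLinearGroup (Fin 2) F ≃* Matrix.ProjectiveSpecialLinearGroup (Fin 2) F) := by
  have h : Subgroup.center (Matrix.SpecialLinearGroup (Fin 2) F) = ⊥ := by
    rw [Subgroup.eq_bot_iff_forall]
    intro A hA
    obtain ⟨r, hr, hA'⟩ := Matrix.SpecialLinearGroup.mem_center_iff.1 hA
    rw [Fintype.card_fin] at hr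
    have hr1 : r = 1 := CharTwo.sq_injective (by simpa using hr)
    refine Subtype.ext ?_
    rw [← hA', hr1, map_one]
    rfl
  exact ⟨((QuotientGroup.quotientMulEquivOfEq h).trans QuotientGroup.quotientBot).symm⟩

/-- The sharply triply transitive case. -/
private theorem psl_of_sharp {G Ω : Type*} [Group G] [MulAction G Ω] [Finite Ω]
    (hZ : Cfsg.IsZassenhausGroup G Ω) {a b : Ω} (hab : a ≠ b) (hn : Odd (Nat.card Ω))
    (h3 : IsMultiplyPretransitive G Ω 3) :
    ∃ (F : Type) (_ : Field F) (_ : Fintype F), (∃ n : ℕ, Fintype.card F = 2 ^ n) ∧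
      Nonempty (G ≃* Matrix.ProjectiveSpecialLinearGroup (Fin 2) F) := by
  classical
  have := faithful hZ
  have := Fintype.ofFinite Ω
  obtain ⟨c, hca, hcb⟩ := exists_third hZ a b
  have hcard : 3 ≤ Fintype.card Ω := Fintype.two_lt_card_iff.2 ⟨a, b, c, hab, hca.symm, hcb.symm⟩
  let H := (MulAction.toPermHom G Ω).range
  have hinj : Function.Injective (MulAction.toPermHom G Ω) := fun g h e =>
    eq_of_smul_eq_smul fun w : Ω => congrArg (fun f : Equiv.Perm Ω => f w) e
  have hH3 : IsMultiplyPretransitive H Ω 3 := ⟨fun x y => by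
    obtain ⟨g, hg⟩ := h3.exists_smul_eq x y
    exact ⟨⟨_, g, rfl⟩, Function.Embedding.ext fun i => congrArg (fun t : Fin 3 ↪ Ω => t i) hg⟩⟩
  have hfix : ∀ g : H, 3 ≤ Nat.card (fixedBy Ω g) → g = 1 := by
    rintro ⟨_, g, rfl⟩ hg
    rw [Nat.card_eq_fintype_card] at hg
    obtain ⟨⟨x, hx⟩, ⟨y, hy⟩, ⟨z, hz⟩, h1, h2, h4⟩ := Fintype.two_lt_card_iff.1 hg
    have e : g = 1 := eq_one_of_three hZ (fun e => h1 (Subtype.ext e)) (fun e => h4 (Subtype.ext e))
      (fun e => h2 (Subtype.ext e)) hx hy hz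
    subst e
    exact Subtype.ext (map_one _)
  obtain ⟨k, hk, -, F, fF, ffF, hF, ⟨e⟩⟩ := Cfsg.Agent.S4702.result hcard
    (by rwa [← Nat.card_eq_fintype_card]) H hH3 hfix
  have : Fact (Nat.Prime 2) := ⟨Nat.prime_two⟩
  have : CharP F 2 := charP_of_card_eq_prime_pow (f := k) hF
  obtain ⟨e'⟩ := nonempty_sl_iso_psl (F := F)
  exact ⟨F, fF, ffF, ⟨k, hF⟩, ⟨((MonoidHom.ofInjective hinj).trans e).trans e'⟩⟩

/-- The TI leaf of the CIT theorem, with the Suzuki groups recognised. -/
theorem ti_case {G : Type*} [Group G] [Finite G] [IsSimpleGroup G]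
    (hna : ∃ a b : G, a * b ≠ b * a) (hG : CIT.IsCIT G)
    (hti : ∀ T : Sylow 2 G, ∀ g : G, g ∉ Subgroup.normalizer ((T : Subgroup G) : Set G) →
      (T : Subgroup G) ⊓ (T : Subgroup G).map (MulAut.conj g).toMonoidHom = ⊥) :
    (∃ (F : Type) (_ : Field F) (_ : Fintype F), (∃ n : ℕ, Fintype.card F = 2 ^ n) ∧
        Nonempty (G ≃* Matrix.ProjectiveSpecialLinearGroup (Fin 2) F)) ∨
      Cfsg.Lie.IsoSuzuki G := by
  classical
  haveI : Fact (Nat.Prime 2) := ⟨Nat.prime_two⟩
  obtain ⟨x, y, hxy⟩ := hna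
  have hcomm : ¬ IsMulCommutative G := fun h => hxy (mul_comm' x y)
  have heven : Even (Nat.card G) := by
    rw [← Nat.not_odd_iff_even]
    intro hodd
    haveI := OddOrder.FeitThompson.isSolvable_of_odd_card hodd
    exact hxy (IsSimpleGroup.comm_iff_isSolvable.mpr inferInstance x y)
  obtain ⟨T⟩ := (inferInstance : Nonempty (Sylow 2 G))
  have hd : 2 ∣ Nat.card G := even_iff_two_dvd.mp heven
  have hTne : (T : Subgroup G) ≠ ⊥ := T.ne_bot_of_dvd_card hd
  have hT2 : 2 ∣ Nat.card T := by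
    haveI : Nontrivial (T : Subgroup G) := (Subgroup.nontrivial_iff_ne_bot _).mpr hTne
    obtain ⟨n, hn, hc⟩ := T.isPGroup'.nontrivial_iff_card.mp this
    rw [hc]; exact dvd_pow_self 2 hn.ne'
  have hE : CNGroup.EvenTI.EvenTI (T : Subgroup G) := by
    refine ⟨T.isPGroup'.isNilpotent, even_iff_two_dvd.mpr hT2, ?_, ?_, ?_⟩
    · intro z hz hz1 g hg
      by_contra hgN
      have hmem : g * z * g⁻¹ ∈ (T : Subgroup G) ⊓ (T : Subgroup G).map (MulAut.conj g).toMonoidHom :=
        ⟨hg, z, hz, rfl⟩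
      rw [hti T g hgN, Subgroup.mem_bot] at hmem
      exact hz1 (conj_eq_one_iff.mp hmem)
    · intro z hz hz1
      have hC := CIT.IsCIT.isPGroup_centralizer hG T.isPGroup' hz hz1
      obtain ⟨S, hS⟩ := hC.exists_le_sylow
      obtain ⟨g, rfl⟩ := MulAction.exists_smul_eq G T S
      have hzS : z ∈ ((g • T : Sylow 2 G) : Subgroup G) :=
        hS (Subgroup.mem_centralizer_singleton_iff.mpr rfl)
      by_cases hgN : g ∈ Subgroup.normalizer ((T : Subgroup G) : Set G)
      · rwa [Sylow.smul_eq_iff_mem_normalizer.mpr hgN] at hS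
      · exfalso
        have hmem : z ∈ (T : Subgroup G) ⊓ (T : Subgroup G).map (MulAut.conj g).toMonoidHom := ⟨hz, hzS⟩
        rw [hti T g hgN, Subgroup.mem_bot] at hmem
        exact hz1 hmem
    · intro p hp hpd
      haveI := Fact.mk hp
      obtain ⟨n, hn⟩ := IsPGroup.iff_card.mp T.isPGroup'
      have hp2 : p = 2 := (Nat.prime_dvd_prime_iff_eq hp Nat.prime_two).mp
        (hp.dvd_of_dvd_pow (hn ▸ hpd))
      subst hp2
      exact ⟨T, le_rfl⟩
  have hN : Subgroup.normalizer ((T : Subgroup G) : Set G) ≠ ⊤ := by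
    intro e
    haveI : (T : Subgroup G).Normal := Subgroup.normalizer_eq_top_iff.mp e
    rcases ‹(T : Subgroup G).Normal›.eq_bot_or_eq_top with h | h
    · exact hTne h
    · haveI : Group.IsNilpotent G := by
        haveI := T.isPGroup'.isNilpotent
        exact Group.nilpotent_of_mulEquiv ((MulEquiv.subgroupCongr h).trans Subgroup.topEquiv)
      rcases (inferInstance : (Subgroup.center G).Normal).eq_bot_or_eq_top with hz | hz
      · haveI : Nontrivial G := IsSimpleGroup.toNontrivial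
        exact absurd hz (Group.IsNilpotent.center_ne_bot G)
      · exact hxy (Subgroup.mem_center_iff.mp (hz ▸ Subgroup.mem_top y) x)
  obtain ⟨a, b, hab, hZ, hU⟩ := CNGroup.EvenTI.zassenhaus hE hN
  have hodd : Odd (Nat.card (G ⧸ Subgroup.normalizer ((T : Subgroup G) : Set G))) := by
    rw [← RegKernel.card_add_one hab hU]
    exact (even_iff_two_dvd.mpr hT2).add_one
  rcases odd_degree hZ hab hU hodd with hd' | ⟨hU2, hna', -⟩
  · exact Or.inl (psl_of_sharp hZ hab hodd (sharply_of_card hZ hab hd').1)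
  · exact Or.inr (RankOneIdent.Suzuki.isoSuzuki hZ hab hU hU2 hna')

end Cfsg.Agent.Lib.CITSuzuki
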