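import Cfsg.Agent.Lib.CIT.Main
import Cfsg.Agent.Lib.CITSuzuki.TICase
import Cfsg.Agent.Lib.CITReduce.SuzukiGraph

/-!
# The simple CIT groups, with the Suzuki groups recognised up to isomorphism

Owner: helper73.
-/

set_option autoImplicit false
set_option linter.style.haveILetI false

namespace Cfsg.Agent.Lib.CITSuzuki

universe u

/-- The simple CIT groups. -/
theorem simpleCITClass : CITReduce.SuzukiGraph.SimpleCITClass.{u} := by
  intro S _ _ _ hna hcit
  haveI : Fact (Nat.Prime 2) := ⟨Nat.prime_two⟩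
  rcases CIT.exists_pair_or_ti (G := S) hcit with hp | hti
  · exact (CIT.psl_of_pair hcit hna hp).imp id Or.inl
  rcases ti_case hna hcit hti with ⟨F, iF, iT, hn, he⟩ | h
  · exact Or.inl ⟨F, iF, iT, Or.inr (Or.inl hn), he⟩
  · exact Or.inr (Or.inr h)

end Cfsg.Agent.Lib.CITSuzuki
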